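import Groth.Prelude.Def_ThetaK
import Groth.Prelude.Def_KoszTw
import Groth.Prelude.Def_ThetaGrp
import Groth.Agent.H10Coh.TensorBasics
import Groth.Agent.H11Sym.InvertibleInverse
import Groth.Agent.H11Ample.Converse
import Groth.Agent.H11Ample.RelQuasiAffine
import Groth.Agent.H10Coh.SerreVanishing
import Groth.Agent.H16Derived.KFlat.SheafAssoc
import Groth.Agent.H16Derived.KFlat.FinLocFree

/-!
# The Mumford bundle along a point and translations
-/

set_option autoImplicit false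
set_option linter.style.haveILetI false
universe u

open CategoryTheory CategoryTheory.Limits MonoidalCategory CartesianMonoidalCategory MonObj AlgebraicGeometry
open Groth.Agent

noncomputable section

namespace Groth.Agent.H25Theta

variable {X Y Z : Scheme.{u}}

/-- Pullback of a module. -/
abbrev pb (f : X ⟶ Y) (M : Y.Modules) : X.Modules := (Scheme.Modules.pullback f).obj M

/-- Pullback and tensor products. -/
def pT (f : X ⟶ Y) (A B : Y.Modules) : pb f (CohB1.tensorMod A B) ≅ CohB1.tensorMod (pb f A) (pb f B) :=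
  (H16Derived.KFlat.Stalk.pullTensorLIso f B).app A

def pC (f : X ⟶ Y) (g : Y ⟶ Z) {h : X ⟶ Z} (w : f ≫ g = h) (M : Z.Modules) : pb f (pb g M) ≅ pb h M :=
  (Scheme.Modules.pullbackComp f g).app M ≪≫ (Scheme.Modules.pullbackCongr w).app M

def pI (f : X ⟶ X) (w : f = 𝟙 X) (M : X.Modules) : pb f M ≅ M :=
  (Scheme.Modules.pullbackCongr w).app M ≪≫ (Scheme.Modules.pullbackId X).app M

def pO (f : X ⟶ Y) : pb f (Coh.structureModule Y) ≅ Coh.structureModule X :=
  H16Derived.KFlat.Stalk.structurePullbackIso f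

/-- Tensor product of isomorphisms. -/
def tI {A A' B B' : X.Modules} (e : A ≅ A') (f : B ≅ B') : CohB1.tensorMod A B ≅ CohB1.tensorMod A' B' where
  hom := KoszTw.tensorMap e.hom f.hom
  inv := KoszTw.tensorMap e.inv f.inv
  hom_inv_id := by rw [← KoszTw.tensorMap_comp, e.hom_inv_id, f.hom_inv_id, KoszTw.tensorMap_id]
  inv_hom_id := by rw [← KoszTw.tensorMap_comp, e.inv_hom_id, f.inv_hom_id, KoszTw.tensorMap_id]

theorem cancel_right {A B C : X.Modules} (hC : PicF.IsInvertible C)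
    (h : Nonempty (CohB1.tensorMod A C ≅ CohB1.tensorMod B C)) : Nonempty (A ≅ B) := by
  obtain ⟨C', hC', ⟨e⟩⟩ := H11Sym.exists_inverse hC
  obtain ⟨h⟩ := h
  let c : CohB1.tensorMod C C' ≅ Coh.structureModule X := H10Coh.Tw.commIso C C' ≪≫ e
  exact ⟨(H10Coh.Tw.rightUnitIso A).symm ≪≫ tI (Iso.refl A) c.symm ≪≫ (H10Coh.Tw.assoc A C C').symm ≪≫
    tI h (Iso.refl C') ≪≫ H10Coh.Tw.assoc B C C' ≪≫ tI (Iso.refl B) c ≪≫ H10Coh.Tw.rightUnitIso B⟩

theorem nonempty_iso_of_subsingleton [Subsingleton X] [Nonempty X] {M : X.Modules} (hM : PicF.IsInvertible M) :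
    Nonempty (M ≅ Coh.structureModule X) := by
  obtain ⟨x⟩ := ‹Nonempty X›
  obtain ⟨V, e, hx, he⟩ := H11Ample.exists_gen hM x
  have hV : (⊤ : X.Opens) ≤ V := fun y _ => by rw [Subsingleton.elim y x]; exact hx
  have hg := he.res hV
  haveI := H11Tilde.isIso_homOfGlobal M (M.presheaf.map (homOfLE hV).op e) fun W => by
    have h := hg.bijective (le_top : W ≤ ⊤)
    exact h
  exact ⟨(asIso (H11Tilde.homOfGlobal M (M.presheaf.map (homOfLE hV).op e))).symm⟩

section AV

variable {k : Type u} [Field k] (A : Over (Spec (CommRingCat.of k))) [GrpObj A] (L : A.left.Modules)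

theorem transl_fst_eq {T : Over (Spec (CommRingCat.of k))} (x : T ⟶ A) :
    ThetaGrp.transl A x ≫ fst A T = (A ◁ x) ≫ μ[A] := by
  rw [ThetaGrp.transl_fst]
  show lift (fst A T) (snd A T ≫ x) ≫ μ[A] = _
  congr 1

/-- `t_x^* L_T ≅ L_T ⊗ pr_T^* M`. -/
def IsTranslEq {T : Over (Spec (CommRingCat.of k))} (x : T ⟶ A) (M : T.left.Modules) : Prop :=
  Nonempty (CohB1.tensorMod (pb (fst A T).left L) (pb (snd A T).left M) ≅
    pb (ThetaGrp.transl A x ≫ fst A T).left L)

theorem lambda_iff {T : Over (Spec (CommRingCat.of k))} (x : T ⟶ A) (M : T.left.Modules) :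
    AgPol.IsLambdaSheaf ((A ◁ x) ≫ μ[A]).left (fst A T).left (snd A T ≫ x).left L (pb (snd A T).left M) ↔
      IsTranslEq A L x (CohB1.tensorMod M (pb x.left L)) := by
  let a : CohB1.tensorMod (CohB1.tensorMod (pb (snd A T).left M) (pb (fst A T).left L)) (pb (snd A T ≫ x).left L) ≅
      CohB1.tensorMod (pb (fst A T).left L) (pb (snd A T).left (CohB1.tensorMod M (pb x.left L))) :=
    tI (H10Coh.Tw.commIso _ _) (Iso.refl _) ≪≫ H10Coh.Tw.assoc _ _ _ ≪≫
      tI (Iso.refl _) (tI (Iso.refl _) (pC (snd A T).left x.left rfl L).symm ≪≫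
        (pT (snd A T).left M (pb x.left L)).symm)
  constructor
  · rintro ⟨e⟩
    exact ⟨a.symm ≪≫ e ≪≫ (Scheme.Modules.pullbackCongr (by rw [transl_fst_eq])).app L⟩
  · rintro ⟨e⟩
    exact ⟨a ≪≫ e ≪≫ (Scheme.Modules.pullbackCongr (by rw [transl_fst_eq])).app L⟩

theorem isTranslEq_congr {T : Over (Spec (CommRingCat.of k))} {x : T ⟶ A} {M N : T.left.Modules} (e : M ≅ N)
    (h : IsTranslEq A L x M) : IsTranslEq A L x N := by
  obtain ⟨h⟩ := h
  exact ⟨tI (Iso.refl _) ((Scheme.Modules.pullback _).mapIso e.symm) ≪≫ h⟩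

theorem mumford_iff (hL : PicF.IsInvertible L) {T : Over (Spec (CommRingCat.of k))} (x : T ⟶ A) :
    ThetaGrp.IsMumfordTriv A L x ↔ ∃ M, PicF.IsInvertible M ∧ IsTranslEq A L x M := by
  have hx := H11Ample.isInvertible_pullback x.left hL
  constructor
  · rintro ⟨M, hM, h⟩
    exact ⟨_, H11Ample.isInvertible_tensor hM hx, (lambda_iff A L x M).1 h⟩
  · rintro ⟨M, hM, h⟩
    obtain ⟨L', hL', ⟨e⟩⟩ := H11Sym.exists_inverse hx
    refine ⟨_, H11Ample.isInvertible_tensor hM hL', (lambda_iff A L x _).2 (isTranslEq_congr A L ?_ h)⟩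
    exact (H10Coh.Tw.assoc M L' _ ≪≫ tI (Iso.refl M) e ≪≫ H10Coh.Tw.rightUnitIso M).symm

/-- The module is the pullback of `L` along the point. -/
theorem eq_pullback_of_translEq (hL : PicF.IsInvertible L) {T : Over (Spec (CommRingCat.of k))} (x : T ⟶ A)
    (M : T.left.Modules) (h : IsTranslEq A L x M) : Nonempty (M ≅ pb x.left L) := by
  obtain ⟨h⟩ := h
  let e : T ⟶ A ⊗ T := lift 1 (𝟙 T)
  have e1 : e.left ≫ (fst A T).left = (toUnit T).left ≫ η[A].left := by
    rw [← Over.comp_left, ← Over.comp_left]; exact congrArg CommaMorphism.left (lift_fst _ _)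
  have e2 : e.left ≫ (snd A T).left = 𝟙 _ := by
    rw [← Over.comp_left, ← Over.id_left]; exact congrArg CommaMorphism.left (lift_snd _ _)
  have e3 : e.left ≫ (ThetaGrp.transl A x ≫ fst A T).left = x.left := by
    rw [← Over.comp_left]
    refine congrArg CommaMorphism.left ?_
    rw [ThetaGrp.transl_fst, MonObj.comp_mul, lift_fst, lift_snd_assoc, Category.id_comp, _root_.one_mul]
  haveI : Subsingleton (𝟙_ (Over (Spec (CommRingCat.of k)))).left := inferInstanceAs (Subsingleton (PrimeSpectrum k))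
  haveI : Nonempty (𝟙_ (Over (Spec (CommRingCat.of k)))).left := inferInstanceAs (Nonempty (PrimeSpectrum k))
  obtain ⟨c⟩ := nonempty_iso_of_subsingleton (H11Ample.isInvertible_pullback η[A].left hL)
  let c' : pb e.left (pb (fst A T).left L) ≅ Coh.structureModule T.left :=
    pC _ _ e1 L ≪≫ (pC (toUnit T).left η[A].left rfl L).symm ≪≫ (Scheme.Modules.pullback _).mapIso c ≪≫ pO _
  exact ⟨(pI _ rfl M).symm ≪≫ (pC e.left (snd A T).left e2 M).symm ≪≫ (H10Coh.Tw.leftUnitIso _).symm ≪≫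
    tI c'.symm (Iso.refl _) ≪≫ (pT e.left _ _).symm ≪≫ (Scheme.Modules.pullback e.left).mapIso h ≪≫
    pC _ _ e3 L⟩

theorem isTranslEq_one {T : Over (Spec (CommRingCat.of k))} :
    IsTranslEq A L (1 : T ⟶ A) (Coh.structureModule T.left) :=
  ⟨tI (Iso.refl _) (pO _) ≪≫ H10Coh.Tw.rightUnitIso _ ≪≫
    (Scheme.Modules.pullbackCongr (by rw [ThetaGrp.transl_one, Category.id_comp])).app L⟩

theorem transl_left_snd {T : Over (Spec (CommRingCat.of k))} (x : T ⟶ A) :
    (ThetaGrp.transl A x).left ≫ (snd A T).left = (snd A T).left := by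
  rw [← Over.comp_left, ThetaGrp.transl_snd]

theorem isTranslEq_mul {T : Over (Spec (CommRingCat.of k))} {x y : T ⟶ A} {M N : T.left.Modules}
    (hx : IsTranslEq A L x M) (hy : IsTranslEq A L y N) : IsTranslEq A L (x * y) (CohB1.tensorMod M N) := by
  obtain ⟨hx⟩ := hx
  obtain ⟨hy⟩ := hy
  have e : (ThetaGrp.transl A x).left ≫ (ThetaGrp.transl A y ≫ fst A T).left =
      (ThetaGrp.transl A (x * y) ≫ fst A T).left := by
    rw [← Over.comp_left, ← Category.assoc, ← ThetaGrp.transl_mul]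
  exact ⟨tI (Iso.refl _) (pT _ M N) ≪≫ (H10Coh.Tw.assoc _ _ _).symm ≪≫
    tI (hx ≪≫ (pC (ThetaGrp.transl A x).left (fst A T).left rfl L).symm)
      (pC _ _ (transl_left_snd A x) N).symm ≪≫
    (pT _ _ _).symm ≪≫ (Scheme.Modules.pullback _).mapIso hy ≪≫ pC _ _ e L⟩

theorem isTranslEq_inv {T : Over (Spec (CommRingCat.of k))} {x : T ⟶ A} {M : T.left.Modules}
    (hM : PicF.IsInvertible M) (hx : IsTranslEq A L x M) :
    ∃ N, PicF.IsInvertible N ∧ IsTranslEq A L x⁻¹ N := by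
  obtain ⟨hx⟩ := hx
  obtain ⟨N, hN, ⟨c⟩⟩ := H11Sym.exists_inverse hM
  have e : (ThetaGrp.transl A x⁻¹).left ≫ (ThetaGrp.transl A x ≫ fst A T).left = (fst A T).left := by
    rw [← Over.comp_left, ← Category.assoc, ← ThetaGrp.transl_mul, inv_mul_cancel, ThetaGrp.transl_one,
      Category.id_comp]
  let h : CohB1.tensorMod (pb (ThetaGrp.transl A x⁻¹ ≫ fst A T).left L) (pb (snd A T).left M) ≅
      pb (fst A T).left L :=
    tI (pC (ThetaGrp.transl A x⁻¹).left (fst A T).left rfl L).symm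
      (pC _ _ (transl_left_snd A x⁻¹) M).symm ≪≫ (pT _ _ _).symm ≪≫
      (Scheme.Modules.pullback _).mapIso hx ≪≫ pC _ _ e L
  refine ⟨N, hN, ⟨tI h.symm (Iso.refl _) ≪≫ H10Coh.Tw.assoc _ _ _ ≪≫
    tI (Iso.refl _) ((pT _ M N).symm ≪≫
      (Scheme.Modules.pullback _).mapIso (H10Coh.Tw.commIso M N ≪≫ c) ≪≫ pO _) ≪≫ H10Coh.Tw.rightUnitIso _⟩⟩

end AV

end Groth.Agent.H25Theta
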