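import Groth.Agent.H25Theta.Basic
import Groth.Prelude.Def_Pic

/-!
# The monoid of isomorphism classes of modules and its group of invertible classes
-/

set_option autoImplicit false
universe u

open CategoryTheory CategoryTheory.Limits AlgebraicGeometry
open Groth.Agent

noncomputable section

namespace Groth.Agent.H25Theta

variable {X Y Z : Scheme.{u}}

/-- Isomorphism classes of modules, as a monoid under the tensor product. -/
def Cls (X : Scheme.{u}) : Type (u + 1) := PicF.Cl X

/-- The class of a module. -/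
def cls (M : X.Modules) : Cls X := PicF.cl M

theorem cls_eq {M N : X.Modules} : cls M = cls N ↔ Nonempty (M ≅ N) := by
  refine ⟨fun h => ?_, fun h => Quot.sound h⟩
  have hequiv : Equivalence fun L L' : X.Modules => Nonempty (L ≅ L') :=
    ⟨fun L => ⟨Iso.refl L⟩, fun ⟨e⟩ => ⟨e.symm⟩, fun ⟨e⟩ ⟨e'⟩ => ⟨e ≪≫ e'⟩⟩
  exact hequiv.eqvGen_iff.1 (Quot.eqvGen_exact h)

theorem cls_ind {P : Cls X → Prop} (h : ∀ M, P (cls M)) (c : Cls X) : P c := Quot.ind h c

instance : CommMonoid (Cls X) where
  mul := Quot.lift₂ (fun M N => cls (CohB1.tensorMod M N))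
    (fun M N N' ⟨e⟩ => Quot.sound ⟨tI (Iso.refl M) e⟩) (fun M M' N ⟨e⟩ => Quot.sound ⟨tI e (Iso.refl N)⟩)
  one := cls (Coh.structureModule X)
  mul_assoc a b c := by
    induction a using cls_ind with | _ A => ?_
    induction b using cls_ind with | _ B => ?_
    induction c using cls_ind with | _ C => ?_
    exact Quot.sound ⟨H10Coh.Tw.assoc A B C⟩
  one_mul a := by
    induction a using cls_ind with | _ A => ?_
    exact Quot.sound ⟨H10Coh.Tw.leftUnitIso A⟩
  mul_one a := by
    induction a using cls_ind with | _ A => ?_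
    exact Quot.sound ⟨H10Coh.Tw.rightUnitIso A⟩
  mul_comm a b := by
    induction a using cls_ind with | _ A => ?_
    induction b using cls_ind with | _ B => ?_
    exact Quot.sound ⟨H10Coh.Tw.commIso A B⟩

theorem cls_tensor (M N : X.Modules) : cls (CohB1.tensorMod M N) = cls M * cls N := rfl

theorem cls_structureModule : cls (Coh.structureModule X) = 1 := rfl

theorem cls_pow (M : X.Modules) : ∀ n : ℕ, cls (CohB1.tensorPow M n) = cls M ^ n
  | 0 => (pow_zero _).symm
  | n + 1 => by rw [pow_succ, ← cls_pow M n]; rfl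

/-- Pullback of classes. -/
def pull (f : X ⟶ Y) : Cls Y →* Cls X where
  toFun := PicF.pullCl f
  map_one' := Quot.sound ⟨pO f⟩
  map_mul' a b := by
    induction a using cls_ind with | _ A => ?_
    induction b using cls_ind with | _ B => ?_
    exact Quot.sound ⟨pT f A B⟩

theorem pull_cls (f : X ⟶ Y) (M : Y.Modules) : pull f (cls M) = cls ((Scheme.Modules.pullback f).obj M) := rfl

theorem pull_pull (f : X ⟶ Y) (g : Y ⟶ Z) (c : Cls Z) : pull f (pull g c) = pull (f ≫ g) c := by
  induction c using cls_ind with | _ M => ?_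
  exact Quot.sound ⟨pC f g rfl M⟩

theorem pull_id (c : Cls X) : pull (𝟙 X) c = c := by
  induction c using cls_ind with | _ M => ?_
  exact Quot.sound ⟨pI (𝟙 X) rfl M⟩

theorem isUnit_cls {M : X.Modules} (hM : PicF.IsInvertible M) : IsUnit (cls M) := by
  obtain ⟨N, -, h⟩ := H11Sym.exists_inverse hM
  exact IsUnit.of_mul_eq_one (cls N) ((mul_comm _ _).trans (Quot.sound h))

/-- The class of an invertible module, as a unit. -/
def unitCls {M : X.Modules} (hM : PicF.IsInvertible M) : (Cls X)ˣ := (isUnit_cls hM).unit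

@[simp] theorem val_unitCls {M : X.Modules} (hM : PicF.IsInvertible M) : (unitCls hM : Cls X) = cls M := rfl

/-- Pullback of invertible classes. -/
def pullU (f : X ⟶ Y) : (Cls Y)ˣ →* (Cls X)ˣ := Units.map (pull f)

theorem pullU_pullU (f : X ⟶ Y) (g : Y ⟶ Z) (c : (Cls Z)ˣ) : pullU f (pullU g c) = pullU (f ≫ g) c :=
  Units.ext (pull_pull f g c)

theorem pullU_id (c : (Cls X)ˣ) : pullU (𝟙 X) c = c := Units.ext (pull_id (c : Cls X))

end Groth.Agent.H25Theta
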