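import Mathlib.RepresentationTheory.FDRep
import Mathlib.RepresentationTheory.Irreducible
import Mathlib.RepresentationTheory.Semisimple
import Mathlib.RepresentationTheory.Invariants
import Mathlib.FieldTheory.IsAlgClosed.Basic
import Mathlib.RingTheory.RootsOfUnity.Basic

/-! Weight one representations of finite-level theta groups. -/

set_option autoImplicit false
universe u v w

namespace Groth.Agent.H25Theta

variable {k : Type u} [Field k] {Γ : Type u} [Group Γ] {ι : kˣ →* Γ}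

/-- The hypotheses on a theta group. -/
structure Theta (ι : kˣ →* Γ) : Prop where
  inj : Function.Injective ι
  cent : ι.range = Subgroup.center Γ
  comm : commutator Γ ≤ ι.range
  fin : Finite (Γ ⧸ ι.range)
  cop : (Nat.card (Γ ⧸ ι.range)).Coprime (ringExpChar k)

namespace Theta

variable (T : Theta ι)
include T

lemma comm_ι (z : kˣ) (g : Γ) : g * ι z = ι z * g := by
  have : ι z ∈ Subgroup.center Γ := T.cent ▸ ⟨z, rfl⟩
  exact Subgroup.mem_center_iff.mp this g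

lemma normal : ι.range.Normal := by rw [T.cent]; infer_instance

lemma exists_pairing (g x : Γ) : ∃ z : kˣ, g * x = ι z * x * g := by
  obtain ⟨z, hz⟩ := T.comm (Subgroup.commutator_mem_commutator (Subgroup.mem_top g) (Subgroup.mem_top x))
  exact ⟨z, by rw [hz, commutatorElement_def]; group⟩

/-- The commutator pairing. -/
noncomputable def e (g x : Γ) : kˣ := Classical.choose (T.exists_pairing g x)

lemma e_spec (g x : Γ) : g * x = ι (T.e g x) * x * g := Classical.choose_spec (T.exists_pairing g x)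

lemma e_eq {g x : Γ} {z : kˣ} (h : g * x = ι z * x * g) : T.e g x = z := by
  have := (T.e_spec g x).symm.trans h
  exact T.inj (mul_right_cancel (mul_right_cancel this))

lemma e_mul_left (g g' x : Γ) : T.e (g * g') x = T.e g x * T.e g' x := by
  refine T.e_eq ?_
  calc g * g' * x = g * (g' * x) := mul_assoc _ _ _
    _ = g * (ι (T.e g' x) * x * g') := by rw [T.e_spec g' x]
    _ = (g * ι (T.e g' x)) * x * g' := by group
    _ = ι (T.e g' x) * (g * x) * g' := by rw [T.comm_ι]; group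
    _ = ι (T.e g' x) * (ι (T.e g x) * x * g) * g' := by rw [T.e_spec g x]
    _ = ι (T.e g' x * T.e g x) * x * (g * g') := by rw [map_mul]; group
    _ = _ := by rw [mul_comm (T.e g' x)]

lemma e_symm (g x : Γ) : T.e x g = (T.e g x)⁻¹ := by
  refine T.e_eq ?_
  rw [mul_assoc, T.e_spec g x, map_inv]
  group

lemma e_mul_right (g x y : Γ) : T.e g (x * y) = T.e g x * T.e g y := by
  rw [T.e_symm (x * y) g, T.e_mul_left, T.e_symm g x, T.e_symm g y, mul_inv, inv_inv, inv_inv]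

lemma e_ι_left (z : kˣ) (x : Γ) : T.e (ι z) x = 1 := T.e_eq (by rw [map_one, one_mul, T.comm_ι z x])

lemma e_ι_right (z : kˣ) (x : Γ) : T.e x (ι z) = 1 := by rw [T.e_symm, T.e_ι_left, inv_one]

lemma e_one_left (x : Γ) : T.e 1 x = 1 := by rw [← map_one ι, T.e_ι_left]

lemma e_inv_left (g x : Γ) : T.e g⁻¹ x = (T.e g x)⁻¹ := by
  rw [eq_inv_iff_mul_eq_one, ← T.e_mul_left, inv_mul_cancel, T.e_one_left]

lemma nondeg {x : Γ} (h : x ∉ ι.range) : ∃ g, T.e g x ≠ 1 := by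
  by_contra! hc
  refine h (T.cent ▸ Subgroup.mem_center_iff.mpr fun g => ?_)
  rw [T.e_spec g x, hc, map_one, one_mul]

lemma card_ne_zero : (Nat.card (Γ ⧸ ι.range) : k) ≠ 0 := by
  haveI := T.fin
  obtain ⟨q, hq⟩ := ExpChar.exists k
  have hc := T.cop
  rw [ringExpChar.eq k q] at hc
  cases hq with
  | zero => exact_mod_cast Nat.card_pos.ne'
  | prime hp =>
    intro h0
    exact hp.one_lt.ne' ((Nat.coprime_comm.mp hc).eq_one_of_dvd ((CharP.cast_eq_zero_iff k q _).mp h0))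

/-- Elements of the same class differ by a central scalar. -/
lemma exists_mul_of_eq {g g' : Γ} (h : (g : Γ ⧸ ι.range) = (g' : Γ ⧸ ι.range)) : ∃ z, g' = g * ι z := by
  obtain ⟨z, hz⟩ := QuotientGroup.eq.mp h
  exact ⟨z, by rw [hz]; group⟩

lemma e_congr_left {g g' : Γ} (h : (g : Γ ⧸ ι.range) = (g' : Γ ⧸ ι.range)) (x : Γ) : T.e g x = T.e g' x := by
  obtain ⟨z, rfl⟩ := T.exists_mul_of_eq h
  rw [T.e_mul_left, T.e_ι_left, mul_one]

variable [Fintype (Γ ⧸ ι.range)]

lemma sum_e_left {x : Γ} (h : x ∉ ι.range) : ∑ q : Γ ⧸ ι.range, ((T.e q.out x : kˣ) : k) = 0 := by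
  haveI := T.normal
  obtain ⟨g, hg⟩ := T.nondeg h
  have hshift : ∑ q : Γ ⧸ ι.range, ((T.e q.out x : kˣ) : k) =
      ∑ q : Γ ⧸ ι.range, ((T.e g x : kˣ) : k) * ((T.e q.out x : kˣ) : k) := by
    refine (Fintype.sum_equiv (Equiv.mulLeft ((g : Γ ⧸ ι.range)))
      (fun q => ((T.e g x : kˣ) : k) * ((T.e q.out x : kˣ) : k)) _ fun q => ?_).symm
    rw [← Units.val_mul, ← T.e_mul_left]
    congr 1
    refine T.e_congr_left ?_ x
    simp
  rw [← Finset.mul_sum] at hshift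
  have : (((T.e g x : kˣ) : k) - 1) * ∑ q : Γ ⧸ ι.range, ((T.e q.out x : kˣ) : k) = 0 := by
    linear_combination -hshift
  refine (mul_eq_zero.mp this).resolve_left ?_
  rwa [sub_eq_zero, Units.val_eq_one]

lemma sum_e_right {g : Γ} (h : g ∉ ι.range) : ∑ q : Γ ⧸ ι.range, ((T.e g q.out : kˣ) : k) = 0 := by
  have := T.sum_e_left (x := g⁻¹) (fun hh => h (by simpa using ι.range.inv_mem hh))
  refine Eq.trans (Finset.sum_congr rfl fun q _ => ?_) this
  rw [T.e_symm g⁻¹ q.out, T.e_inv_left, inv_inv]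

omit [Fintype (Γ ⧸ ι.range)] in
lemma out_one_mem : (((1 : Γ) : Γ ⧸ ι.range)).out ∈ ι.range := by
  have := QuotientGroup.eq.mp (QuotientGroup.out_eq' ((1 : Γ) : Γ ⧸ ι.range))
  simpa using ι.range.inv_mem this

end Theta

/-- Weight one. -/
def IsWt {V : Type v} [AddCommGroup V] [Module k V] (ι : kˣ →* Γ) (ρ : Representation k Γ V) : Prop :=
  ∀ z : kˣ, ρ (ι z) = (z : k) • (1 : V →ₗ[k] V)

section Average

variable {V : Type v} [AddCommGroup V] [Module k V] {W : Type w} [AddCommGroup W] [Module k W]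
variable (ρ : Representation k Γ V) (σ : Representation k Γ W)

/-- Conjugation of a linear map. -/
def conj (g : Γ) (f : V →ₗ[k] W) : V →ₗ[k] W := σ g ∘ₗ f ∘ₗ ρ g⁻¹

variable [Fintype (Γ ⧸ ι.range)]

/-- Sum of the conjugates over `Γ ⧸ kˣ`. -/
noncomputable def avg (ι : kˣ →* Γ) [Fintype (Γ ⧸ ι.range)] (f : V →ₗ[k] W) : V →ₗ[k] W :=
  ∑ q : Γ ⧸ ι.range, conj ρ σ q.out f

variable {ρ σ}

lemma conj_mul (g h : Γ) (f : V →ₗ[k] W) : conj ρ σ (g * h) f = conj ρ σ g (conj ρ σ h f) := by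
  refine LinearMap.ext fun v => ?_
  simp [conj]

variable (T : Theta ι) (hρ : IsWt ι ρ) (hσ : IsWt ι σ)
include T hρ hσ

omit [Fintype (Γ ⧸ ι.range)] in
lemma conj_congr {g g' : Γ} (h : (g : Γ ⧸ ι.range) = (g' : Γ ⧸ ι.range)) (f : V →ₗ[k] W) :
    conj ρ σ g f = conj ρ σ g' f := by
  obtain ⟨z, rfl⟩ := T.exists_mul_of_eq h
  rw [conj_mul]
  congr 1
  refine LinearMap.ext fun v => ?_
  simp [conj, ← map_inv, hρ _, hσ _, smul_smul]

/-- The average commutes with the group. -/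
lemma avg_comm (g : Γ) (f : V →ₗ[k] W) : σ g ∘ₗ avg ρ σ ι f = avg ρ σ ι f ∘ₗ ρ g := by
  haveI := T.normal
  have h : conj ρ σ g (avg ρ σ ι f) = avg ρ σ ι f := by
    have hlin : conj ρ σ g (avg ρ σ ι f) = ∑ q : Γ ⧸ ι.range, conj ρ σ g (conj ρ σ q.out f) := by
      simp only [avg, conj]
      refine LinearMap.ext fun v => ?_
      simp [LinearMap.sum_apply, map_sum]
    rw [hlin, avg]
    refine Fintype.sum_equiv (Equiv.mulLeft ((g : Γ ⧸ ι.range)))
      (fun q => conj ρ σ g (conj ρ σ q.out f)) _ fun q => ?_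
    rw [← conj_mul]
    refine conj_congr T hρ hσ ?_ f
    simp
  conv_rhs => rw [← h]
  refine LinearMap.ext fun v => ?_
  simp [conj]

/-- **Reconstruction.** -/
lemma sum_avg (f : V →ₗ[k] W) :
    ∑ x : Γ ⧸ ι.range, avg ρ σ ι (f ∘ₗ ρ x.out⁻¹) ∘ₗ ρ x.out = (Nat.card (Γ ⧸ ι.range) : k) • f := by
  classical
  haveI := T.normal
  have key : ∀ q x : Γ, conj ρ σ q (f ∘ₗ ρ x⁻¹) ∘ₗ ρ x = ((T.e q⁻¹ x : kˣ) : k) • conj ρ σ q f := by
    intro q x
    have h : x⁻¹ * q⁻¹ * x = ι (T.e q⁻¹ x) * q⁻¹ := by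
      rw [mul_assoc, T.e_spec q⁻¹ x, ← mul_assoc, ← mul_assoc, T.comm_ι (T.e q⁻¹ x) x⁻¹]
      group
    refine LinearMap.ext fun v => ?_
    have h2 : ρ x⁻¹ (ρ q⁻¹ (ρ x v)) = ((T.e q⁻¹ x : kˣ) : k) • ρ q⁻¹ v := by
      rw [← Module.End.mul_apply, ← Module.End.mul_apply, ← map_mul, ← map_mul, h, map_mul, hρ]
      rfl
    simp only [conj, LinearMap.comp_apply, LinearMap.smul_apply, h2, map_smul]
  have hsum : ∀ (F : (Γ ⧸ ι.range) → (V →ₗ[k] W)) (g : V →ₗ[k] V), (∑ q, F q) ∘ₗ g = ∑ q, F q ∘ₗ g :=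
    fun F g => LinearMap.ext fun v => by simp [LinearMap.sum_apply]
  simp only [avg, hsum, key]
  rw [Finset.sum_comm, Finset.sum_eq_single ((1 : Γ) : Γ ⧸ ι.range)]
  · rw [← Finset.sum_smul]
    have h1 : ∀ x : Γ ⧸ ι.range, ((T.e (((1 : Γ) : Γ ⧸ ι.range)).out⁻¹ x.out : kˣ) : k) = 1 := fun x => by
      obtain ⟨z, hz⟩ := T.out_one_mem
      rw [← hz, ← map_inv, T.e_ι_left]; simp
    rw [Finset.sum_congr rfl fun x _ => h1 x]
    rw [Finset.sum_const, Finset.card_univ, nsmul_eq_mul, mul_one, Nat.card_eq_fintype_card]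
    congr 1
    rw [conj_congr T hρ hσ (g' := 1) (by simp)]
    simp [conj, Module.End.one_eq_id]
  · intro q _ hq
    rw [← Finset.sum_smul, T.sum_e_right, zero_smul]
    intro hmem
    refine hq ?_
    have := (QuotientGroup.eq_one_iff (N := ι.range) q.out).mpr (by simpa using ι.range.inv_mem hmem)
    rwa [QuotientGroup.out_eq'] at this
  · simp

end Average

end Groth.Agent.H25Theta
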