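import Groth.Agent.H25Theta.Grp

/-! Structure of weight one representations of theta groups. -/

set_option autoImplicit false
universe u v w

namespace Groth.Agent.H25Theta

variable {k : Type u} [Field k] {Γ : Type u} [Group Γ] {ι : kˣ →* Γ}

section Irr

variable {V : Type v} [AddCommGroup V] [Module k V] {W : Type w} [AddCommGroup W] [Module k W]
variable {ρ : Representation k Γ V} {σ : Representation k Γ W}
variable (T : Theta ι) [Fintype (Γ ⧸ ι.range)] (hρ : IsWt ι ρ) (hσ : IsWt ι σ)
include T hρ hσ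

/-- The average as an intertwining map. -/
noncomputable def avgMap (f : V →ₗ[k] W) : Representation.IntertwiningMap ρ σ where
  toLinearMap := avg ρ σ ι f
  isIntertwining' g := (avg_comm T hρ hσ g f).symm

lemma exists_equiv [Representation.IsIrreducible ρ] [Representation.IsIrreducible σ] [Nontrivial W]
    [Nontrivial V] : Nonempty (Representation.Equiv ρ σ) := by
  obtain ⟨v, hv⟩ := exists_ne (0 : V)
  obtain ⟨w, hw⟩ := exists_ne (0 : W)
  obtain ⟨φ, hφ, -⟩ := Submodule.exists_le_ker_of_notMem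
    (show v ∉ (⊥ : Submodule k V) by simpa using hv)
  have hf : φ.smulRight w ≠ 0 := fun h => hw (by
    have := LinearMap.congr_fun h v
    simpa [hφ] using this)
  obtain ⟨x, hx⟩ : ∃ x : Γ ⧸ ι.range, avg ρ σ ι (φ.smulRight w ∘ₗ ρ x.out⁻¹) ≠ 0 := by
    by_contra! h
    have := sum_avg T hρ hσ (φ.smulRight w)
    simp only [h, LinearMap.zero_comp, Finset.sum_const_zero] at this
    exact hf ((smul_eq_zero.mp this.symm).resolve_left T.card_ne_zero)
  rcases Representation.IsIrreducible.bijective_or_eq_zero (avgMap T hρ hσ (φ.smulRight w ∘ₗ ρ x.out⁻¹)) with h | h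
  · refine ⟨Representation.Equiv.mk (LinearEquiv.ofBijective _ h) fun g => ?_⟩
    exact (avg_comm T hρ hσ g (φ.smulRight w ∘ₗ ρ x.out⁻¹)).symm
  · exact absurd (congrArg Representation.IntertwiningMap.toLinearMap h) hx

omit hρ in
/-- Invariant complements. -/
lemma semisimple : Representation.IsSemisimpleRepresentation σ := by
  refine ⟨fun S => ?_⟩
  obtain ⟨C, hC⟩ := Submodule.exists_isCompl S.toSubmodule
  set π : W →ₗ[k] W := S.toSubmodule.projection C hC
  set n := (Nat.card (Γ ⧸ ι.range) : k)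
  set P : W →ₗ[k] W := n⁻¹ • avg σ σ ι π with hP
  have hπ : ∀ w, π w ∈ S.toSubmodule := fun w => Submodule.projection_apply_mem hC w
  have hP1 : ∀ w, P w ∈ S.toSubmodule := fun w => by
    simp only [hP, avg, LinearMap.smul_apply, LinearMap.sum_apply, conj, LinearMap.comp_apply]
    exact S.toSubmodule.smul_mem _ (S.toSubmodule.sum_mem fun q _ => S.apply_mem_toSubmodule _ (hπ _))
  have hP2 : ∀ w ∈ S.toSubmodule, P w = w := fun w hw => by
    simp only [hP, avg, LinearMap.smul_apply, LinearMap.sum_apply, conj, LinearMap.comp_apply]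
    rw [Finset.sum_congr rfl (fun q _ => by
      rw [show π (σ q.out⁻¹ w) = σ q.out⁻¹ w from Submodule.projection_apply_of_mem_left hC (S.apply_mem_toSubmodule _ hw),
        ← Module.End.mul_apply, ← map_mul, mul_inv_cancel, map_one, Module.End.one_apply]),
      Finset.sum_const, Finset.card_univ, ← Nat.cast_smul_eq_nsmul k, smul_smul]
    rw [show n⁻¹ * (Fintype.card (Γ ⧸ ι.range) : k) = 1 by
      rw [← Nat.card_eq_fintype_card]; exact inv_mul_cancel₀ T.card_ne_zero, one_smul]
  let S' : Subrepresentation σ := ⟨LinearMap.ker P, fun g w hw => by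
    rw [LinearMap.mem_ker] at hw ⊢
    have := LinearMap.congr_fun (avg_comm T hσ hσ g π) w
    simp only [LinearMap.comp_apply] at this
    rw [hP, LinearMap.smul_apply, ← this, ← map_smul,
      show n⁻¹ • avg σ σ ι π w = P w from rfl, hw, map_zero]⟩
  refine ⟨S', ?_, ?_⟩
  · rw [disjoint_iff_inf_le]
    intro w hw
    obtain ⟨h1, h2⟩ : w ∈ S.toSubmodule ∧ w ∈ LinearMap.ker P := hw
    show w ∈ (⊥ : Submodule k W)
    rw [Submodule.mem_bot, ← hP2 w h1]
    exact LinearMap.mem_ker.mp h2
  · rw [codisjoint_iff_le_sup]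
    intro w _
    show w ∈ S.toSubmodule ⊔ LinearMap.ker P
    rw [show w = P w + (w - P w) by abel]
    refine Submodule.add_mem_sup (hP1 w) ?_
    rw [LinearMap.mem_ker, map_sub, hP2 _ (hP1 w), sub_self]

end Irr

/-- Degree squared is the order of the quotient. -/
theorem sq_finrank {V : Type v} [AddCommGroup V] [Module k V] [FiniteDimensional k V] [IsAlgClosed k]
    {ρ : Representation k Γ V} (T : Theta ι) [Fintype (Γ ⧸ ι.range)] (hρ : IsWt ι ρ)
    [Representation.IsIrreducible ρ] [Nontrivial V] :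
    Module.finrank k V ^ 2 = Nat.card (Γ ⧸ ι.range) := by
  classical
  haveI := T.normal
  let L : ((Γ ⧸ ι.range) → k) →ₗ[k] (V →ₗ[k] V) := Fintype.linearCombination k fun x => ρ x.out
  have hn := T.card_ne_zero
  have hsurj : Function.Surjective L := fun f => by
    have key : ∀ x : Γ ⧸ ι.range, ∃ c : k, avg ρ ρ ι (f ∘ₗ ρ x.out⁻¹) = c • LinearMap.id := fun x => by
      obtain ⟨c, hc⟩ := (Representation.IsIrreducible.algebraMap_intertwiningMap_bijective_of_isAlgClosed
        (ρ := ρ)).2 (avgMap T hρ hρ (f ∘ₗ ρ x.out⁻¹))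
      refine ⟨c, ?_⟩
      exact (congrArg Representation.IntertwiningMap.toLinearMap hc).symm
    choose c hc using key
    refine ⟨fun x => (Nat.card (Γ ⧸ ι.range) : k)⁻¹ * c x, ?_⟩
    have h := sum_avg T hρ hρ f
    simp only [hc, LinearMap.smul_comp, LinearMap.id_comp] at h
    simp only [L, Fintype.linearCombination_apply]
    rw [Finset.sum_congr rfl fun x _ => mul_smul _ _ _, ← Finset.smul_sum, h, smul_smul,
      inv_mul_cancel₀ hn, one_smul]
  have hinj : Function.Injective L := by
    refine (injective_iff_map_eq_zero L).mpr fun a ha => funext fun y => ?_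
    simp only [L, Fintype.linearCombination_apply] at ha
    have hc : ∀ q x : Γ, conj ρ ρ q (ρ x) = ((T.e q x : kˣ) : k) • ρ x := fun q x => by
      refine LinearMap.ext fun v => ?_
      have : q * x * q⁻¹ = ι (T.e q x) * x := by rw [T.e_spec q x]; group
      simp only [conj, LinearMap.comp_apply, LinearMap.smul_apply]
      rw [← Module.End.mul_apply, ← Module.End.mul_apply, ← map_mul, ← map_mul, this, map_mul, hρ]
      rfl
    have h1 : ∀ q : Γ ⧸ ι.range, ∑ x : Γ ⧸ ι.range, (a x * (T.e q.out x.out : kˣ)) • ρ x.out = 0 := fun q => by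
      have := congrArg (conj ρ ρ q.out) ha
      rw [show conj ρ ρ q.out (∑ x : Γ ⧸ ι.range, a x • ρ x.out) = ∑ x, a x • conj ρ ρ q.out (ρ x.out) from by
        refine LinearMap.ext fun v => ?_
        simp [conj, LinearMap.sum_apply, map_sum]] at this
      simp only [hc, smul_smul] at this
      rw [this]
      refine LinearMap.ext fun v => ?_
      simp [conj]
    have h2 : ∑ q : Γ ⧸ ι.range, ((T.e q.out y.out⁻¹ : kˣ) : k) •
        ∑ x : Γ ⧸ ι.range, (a x * (T.e q.out x.out : kˣ)) • ρ x.out = 0 := by simp [h1]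
    simp only [Finset.smul_sum, smul_smul] at h2
    rw [Finset.sum_comm] at h2
    have h3 : ∀ x : Γ ⧸ ι.range, ∑ q : Γ ⧸ ι.range,
        (((T.e q.out y.out⁻¹ : kˣ) : k) * (a x * (T.e q.out x.out : kˣ))) • ρ x.out =
        (a x * ∑ q : Γ ⧸ ι.range, ((T.e q.out (y.out⁻¹ * x.out) : kˣ) : k)) • ρ x.out := fun x => by
      rw [← Finset.sum_smul, Finset.mul_sum]
      congr 1
      refine Finset.sum_congr rfl fun q _ => ?_
      rw [T.e_mul_right, Units.val_mul]; ring
    simp only [h3] at h2
    rw [Finset.sum_eq_single y] at h2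
    · rw [inv_mul_cancel] at h2
      have h4 : ∀ q : Γ ⧸ ι.range, ((T.e q.out 1 : kˣ) : k) = 1 := fun q => by
        rw [← map_one ι, T.e_ι_right]; simp
      simp only [h4, Finset.sum_const, Finset.card_univ, nsmul_eq_mul, mul_one] at h2
      rcases smul_eq_zero.mp h2 with h | h
      · rw [← Nat.card_eq_fintype_card] at h
        exact (mul_eq_zero.mp h).resolve_right hn
      · exfalso
        obtain ⟨v, hv⟩ := exists_ne (0 : V)
        refine hv ?_
        have := LinearMap.congr_fun h (ρ y.out⁻¹ v)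
        rwa [← Module.End.mul_apply, ← map_mul, mul_inv_cancel, map_one, Module.End.one_apply,
          LinearMap.zero_apply] at this
    · intro x _ hx
      rw [T.sum_e_left, mul_zero, zero_smul]
      intro hmem
      refine hx ?_
      have := QuotientGroup.eq.mpr hmem
      rwa [QuotientGroup.out_eq', QuotientGroup.out_eq', eq_comm] at this
    · simp
  have h := (LinearEquiv.ofBijective L ⟨hinj, hsurj⟩).finrank_eq
  rw [Module.finrank_fintype_fun_eq_card, Module.finrank_linearMap] at h
  rw [pow_two, ← h, Nat.card_eq_fintype_card]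

/-! ### Existence -/

/-- Functions on `Γ` of weight one. -/
def wtFun (ι : kˣ →* Γ) : Submodule k (Γ → k) where
  carrier := {f | ∀ z g, f (ι z * g) = (z : k) * f g}
  add_mem' hf hg z x := by simp [hf z x, hg z x, mul_add]
  zero_mem' := by simp
  smul_mem' c f hf z x := by simp [hf z x, mul_left_comm]

/-- Right translation. -/
def wtRep (ι : kˣ →* Γ) : Representation k Γ (wtFun ι) where
  toFun γ :=
    { toFun := fun f => ⟨fun g => f.1 (g * γ), fun z g => by show f.1 (ι z * g * γ) = _; rw [mul_assoc]; exact f.2 z (g * γ)⟩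
      map_add' := fun f g => rfl
      map_smul' := fun c f => rfl }
  map_one' := by ext f g; simp
  map_mul' a b := by ext f g; simp [mul_assoc]

lemma Theta.isWt_wtRep (T : Theta ι) : IsWt ι (wtRep ι) := fun z => by
  refine LinearMap.ext fun f => Subtype.ext (funext fun g => ?_)
  show f.1 (g * ι z) = _
  rw [T.comm_ι, f.2 z g]
  rfl

lemma Theta.finite_wtFun (T : Theta ι) : FiniteDimensional k (wtFun ι) := by
  haveI := T.fin
  haveI := Fintype.ofFinite (Γ ⧸ ι.range)
  let r : wtFun ι →ₗ[k] ((Γ ⧸ ι.range) → k) :=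
    { toFun := fun f q => f.1 q.out, map_add' := fun _ _ => rfl, map_smul' := fun _ _ => rfl }
  refine FiniteDimensional.of_injective r ((injective_iff_map_eq_zero r).mpr fun f hf => ?_)
  refine Subtype.ext (funext fun g => ?_)
  obtain ⟨z, hz⟩ := T.exists_mul_of_eq (g := ((g : Γ ⧸ ι.range)).out) (g' := g) (QuotientGroup.out_eq' _)
  rw [hz, T.comm_ι, f.2]
  show _ * f.1 _ = 0
  rw [show f.1 ((g : Γ ⧸ ι.range)).out = 0 from congrFun hf _, mul_zero]

lemma Theta.wtFun_ne_bot (T : Theta ι) : Nontrivial (wtFun ι) := by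
  classical
  let f : Γ → k := fun g => if h : g ∈ ι.range then ((Classical.choose h : kˣ) : k) else 0
  have hf : f ∈ wtFun ι := fun z g => by
    by_cases h : g ∈ ι.range
    · have h' : ι z * g ∈ ι.range := ι.range.mul_mem ⟨z, rfl⟩ h
      simp only [f, dif_pos h, dif_pos h', ← Units.val_mul]
      congr 1
      refine T.inj ?_
      rw [Classical.choose_spec h', map_mul, Classical.choose_spec h]
    · have h' : ι z * g ∉ ι.range := fun hh => h (by
        have := ι.range.mul_mem (ι.range.inv_mem ⟨z, rfl⟩) hh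
        simpa using this)
      simp only [f, dif_neg h, dif_neg h', mul_zero]
  refine ⟨⟨⟨f, hf⟩, 0, fun h => ?_⟩⟩
  have := congrFun (congrArg Subtype.val h) 1
  simp only [f, dif_pos ι.range.one_mem, ZeroMemClass.coe_zero, Pi.zero_apply] at this
  exact Units.ne_zero _ this

/-- An irreducible representation of weight one exists. -/
theorem exists_irreducible (T : Theta ι) :
    ∃ V : FDRep k Γ, Representation.IsIrreducible V.ρ ∧ IsWt ι V.ρ := by
  classical
  haveI := T.finite_wtFun
  haveI := T.wtFun_ne_bot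
  let p : ℕ → Prop := fun m => ∃ S : Subrepresentation (wtRep ι), S.toSubmodule ≠ ⊥ ∧ Module.finrank k S.toSubmodule = m
  have hex : ∃ m, p m := ⟨_, ⊤, by exact top_ne_bot, rfl⟩
  obtain ⟨S, hS, hdim⟩ := Nat.find_spec hex
  letI : AddCommGroup S.toSubmodule := Submodule.addCommGroup _
  refine ⟨FDRep.of (V := S.toSubmodule) (S.toRepresentation : _), ?_, ?_⟩
  · show Representation.IsIrreducible S.toRepresentation
    haveI : Nontrivial S.toSubmodule := Submodule.nontrivial_iff_ne_bot.mpr hS
    refine @IsSimpleOrder.mk _ _ _ ⟨⟨⊥, ⊤, fun h => ?_⟩⟩ fun R => ?_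
    · exact bot_ne_top (congrArg Subrepresentation.toSubmodule h : (⊥ : Submodule k S.toSubmodule) = ⊤)
    · by_cases hR : R.toSubmodule = ⊥
      · exact Or.inl (Subrepresentation.toSubmodule_injective hR)
      · right
        let R' : Subrepresentation (wtRep ι) := ⟨R.toSubmodule.map S.toSubmodule.subtype, fun g v hv => by
          obtain ⟨x, hx, rfl⟩ := hv
          exact ⟨S.toRepresentation g x, R.apply_mem_toSubmodule g hx, rfl⟩⟩
        have hR' : Module.finrank k R'.toSubmodule = Module.finrank k R.toSubmodule :=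
          (Submodule.equivMapOfInjective _ S.toSubmodule.injective_subtype R.toSubmodule).finrank_eq.symm
        have hge := Nat.find_min' hex (m := Module.finrank k R.toSubmodule)
          ⟨R', fun h => hR (Submodule.map_injective_of_injective S.toSubmodule.injective_subtype
            (show R.toSubmodule.map S.toSubmodule.subtype = (⊥ : Submodule k S.toSubmodule).map S.toSubmodule.subtype by
              rw [Submodule.map_bot]; exact h)), hR'⟩
        refine Subrepresentation.toSubmodule_injective ?_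
        show R.toSubmodule = ⊤
        exact Submodule.eq_top_of_finrank_eq (le_antisymm (Submodule.finrank_le _) (hdim ▸ hge))
  · intro z
    show S.toRepresentation (ι z) = _
    refine LinearMap.ext fun v => Subtype.ext ?_
    show wtRep ι (ι z) v.1 = _
    rw [T.isWt_wtRep z]
    rfl

/-! ### Level subgroups -/

/-- The projector to `H`-invariants. -/
noncomputable def hproj {V : Type v} [AddCommGroup V] [Module k V] (ρ : Representation k Γ V)
    (H : Subgroup Γ) [Fintype H] : V →ₗ[k] V := (Fintype.card H : k)⁻¹ • ∑ h : H, ρ h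

section Level

variable (T : Theta ι) (H : Subgroup Γ) (hH : H ⊓ ι.range = ⊥)
include T hH

lemma finite_level : Finite H := by
  haveI := T.fin
  refine Finite.of_injective (fun h : H => (h.1 : Γ ⧸ ι.range)) fun a b hab => Subtype.ext ?_
  have h1 : a.1⁻¹ * b.1 ∈ H ⊓ ι.range := ⟨H.mul_mem (H.inv_mem a.2) b.2, QuotientGroup.eq.mp hab⟩
  rw [hH, Subgroup.mem_bot] at h1
  exact (inv_mul_eq_one.mp h1)

lemma card_level_ne_zero [Fintype H] : (Fintype.card H : k) ≠ 0 := by
  haveI := T.fin
  haveI := T.normal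
  intro h0
  let φ : H →* Γ ⧸ ι.range := (QuotientGroup.mk' ι.range).comp H.subtype
  have hφ : Function.Injective φ := (injective_iff_map_eq_one φ).mpr fun a ha => Subtype.ext (by
    have : a.1 ∈ H ⊓ ι.range := ⟨a.2, (QuotientGroup.eq_one_iff _).mp ha⟩
    rwa [hH, Subgroup.mem_bot] at this)
  obtain ⟨c, hc⟩ := Subgroup.card_dvd_of_injective φ hφ
  refine T.card_ne_zero ?_
  rw [hc, Nat.cast_mul, Nat.card_eq_fintype_card (α := H), h0, zero_mul]

lemma comm_level {h : Γ} (hh : h ∈ H) {h' : Γ} (hh' : h' ∈ H) : T.e h h' = 1 := by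
  obtain ⟨z, hz⟩ : h * h' * h⁻¹ * h'⁻¹ ∈ ι.range := ⟨T.e h h', by rw [T.e_spec h h']; group⟩
  have hm : ι z ∈ H ⊓ ι.range := ⟨by
    rw [hz]; exact H.mul_mem (H.mul_mem (H.mul_mem hh hh') (H.inv_mem hh)) (H.inv_mem hh'), z, rfl⟩
  rw [hH, Subgroup.mem_bot, hz] at hm
  refine T.e_eq ?_
  rw [map_one, one_mul]
  exact mul_inv_eq_iff_eq_mul.mp (mul_inv_eq_one.mp hm)

/-- A maximal level subgroup is its own centraliser modulo the centre. -/
lemma self_orth [IsAlgClosed k] (hmax : ∀ H' : Subgroup Γ, H' ⊓ ι.range = ⊥ → H ≤ H' → H' = H) {x : Γ}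
    (hx : ∀ h ∈ H, T.e x h = 1) : x ∈ H ⊔ ι.range := by
  classical
  haveI := T.fin
  haveI := T.normal
  set HZ := H ⊔ ι.range
  have hpow : ∃ m, 0 < m ∧ x ^ m ∈ HZ := by
    refine ⟨Nat.card (Γ ⧸ ι.range), Nat.card_pos, Subgroup.mem_sup_right ?_⟩
    rw [← QuotientGroup.eq_one_iff, QuotientGroup.mk_pow, pow_card_eq_one']
  set m := Nat.find hpow
  obtain ⟨hm0, hm⟩ := Nat.find_spec hpow
  obtain ⟨h₀, hh₀, _, ⟨a, rfl⟩, hh⟩ := (Subgroup.mem_sup_of_normal_right).mp hm
  obtain ⟨z, hz⟩ := IsAlgClosed.exists_pow_nat_eq ((a⁻¹ : kˣ) : k) hm0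
  have hz0 : z ≠ 0 := fun h => by
    rw [h, zero_pow hm0.ne'] at hz
    exact Units.ne_zero _ hz.symm
  set y := x * ι (Units.mk0 z hz0) with hy
  have hym : y ^ m ∈ H := by
    have e1 : (Units.mk0 z hz0) ^ m = a⁻¹ := Units.ext (by simpa using hz)
    have hc : Commute x (ι (Units.mk0 z hz0)) := T.comm_ι _ _
    rw [hy, hc.mul_pow, ← map_pow, e1, ← hh, mul_assoc, ← map_mul, mul_inv_cancel, map_one, mul_one]
    exact hh₀
  have hcomm : ∀ h ∈ H, Commute y h := fun h hh' => by
    have := T.e_spec y h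
    rw [hy, T.e_mul_left, hx h hh', T.e_ι_left, mul_one, map_one, one_mul] at this
    exact this
  have hcommz : ∀ (j : ℤ), ∀ h ∈ H, Commute (y ^ j) h := fun j h hh' => (hcomm h hh').zpow_left j
  let H' : Subgroup Γ :=
    { carrier := {g | ∃ j : ℤ, ∃ h ∈ H, g = y ^ j * h}
      mul_mem' := by
        rintro _ _ ⟨i, g, hg, rfl⟩ ⟨j, h, hh, rfl⟩
        refine ⟨i + j, g * h, H.mul_mem hg hh, ?_⟩
        rw [zpow_add, mul_assoc, ← mul_assoc g, ← (hcommz j g hg).eq]
        group
      one_mem' := ⟨0, 1, H.one_mem, by simp⟩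
      inv_mem' := by
        rintro _ ⟨i, g, hg, rfl⟩
        exact ⟨-i, g⁻¹, H.inv_mem hg, by rw [mul_inv_rev, zpow_neg, ((hcommz i g hg).inv_right.inv_left).eq]⟩ }
  have hle : H ≤ H' := fun h hh' => ⟨0, h, hh', by simp⟩
  have hbot : H' ⊓ ι.range = ⊥ := by
    refine eq_bot_iff.mpr fun g hg => ?_
    obtain ⟨⟨j, h, hh', rfl⟩, hgr⟩ := hg
    have hxj : x ^ j ∈ HZ := by
      have hc : Commute x (ι (Units.mk0 z hz0)) := T.comm_ι _ _
      rw [show x ^ j = (y ^ j * h) * (h⁻¹ * (ι (Units.mk0 z hz0) ^ j)⁻¹) by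
        rw [hy, hc.mul_zpow]; group]
      exact HZ.mul_mem (Subgroup.mem_sup_right hgr) (HZ.mul_mem (Subgroup.mem_sup_left (H.inv_mem hh'))
        (HZ.inv_mem (HZ.zpow_mem (Subgroup.mem_sup_right ⟨_, rfl⟩) j)))
    have hdvd : (m : ℤ) ∣ j := by
      have hr : x ^ (j % (m : ℤ)) ∈ HZ := by
        rw [Int.emod_def, zpow_sub, zpow_mul, zpow_natCast]
        exact HZ.mul_mem hxj (HZ.inv_mem (HZ.zpow_mem hm _))
      obtain ⟨r, hr'⟩ := Int.eq_ofNat_of_zero_le (Int.emod_nonneg j (by omega : (m : ℤ) ≠ 0))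
      rw [hr', zpow_natCast] at hr
      have hlt : r < m := by have := Int.emod_lt_of_pos j (by omega : (0 : ℤ) < m); omega
      by_cases hr0 : r = 0
      · exact Int.dvd_of_emod_eq_zero (by rw [hr', hr0]; rfl)
      · exact absurd ⟨Nat.pos_of_ne_zero hr0, hr⟩ (Nat.find_min hpow hlt)
    obtain ⟨i, rfl⟩ := hdvd
    have : y ^ ((m : ℤ) * i) * h ∈ H ⊓ ι.range := ⟨H.mul_mem (by rw [zpow_mul, zpow_natCast]; exact H.zpow_mem hym i) hh', hgr⟩
    rwa [hH] at this
  have heq := hmax H' hbot hle
  have hyH : y ∈ H := heq ▸ (⟨1, 1, H.one_mem, by simp⟩ : y ∈ H')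
  rw [show x = y * (ι (Units.mk0 z hz0))⁻¹ by rw [hy]; group]
  exact HZ.mul_mem (Subgroup.mem_sup_left hyH) (HZ.inv_mem (Subgroup.mem_sup_right ⟨_, rfl⟩))

variable {V : Type v} [AddCommGroup V] [Module k V] {ρ : Representation k Γ V} (hρ : IsWt ι ρ)
include hρ

lemma conj_hproj [Fintype H] (x : Γ) :
    ρ x * hproj ρ H * ρ x⁻¹ = (Fintype.card H : k)⁻¹ • ∑ h : H, ((T.e x h : kˣ) : k) • ρ h := by
  rw [hproj, mul_smul_comm, smul_mul_assoc, Finset.mul_sum, Finset.sum_mul]
  congr 1
  refine Finset.sum_congr rfl fun h _ => ?_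
  rw [← map_mul, ← map_mul, show x * h.1 * x⁻¹ = ι (T.e x h) * h by rw [T.e_spec x h]; group, map_mul, hρ,
    smul_mul_assoc, one_mul]

omit hρ in
lemma mul_hproj [Fintype H] (g : H) : ρ g * hproj ρ H = hproj ρ H := by
  rw [hproj, mul_smul_comm, Finset.mul_sum]
  congr 1
  exact Fintype.sum_equiv (Equiv.mulLeft g) _ _ fun h => by simp

omit hρ in
lemma range_hproj [Fintype H] :
    LinearMap.range (hproj ρ H) = Representation.invariants (ρ.comp H.subtype) := by
  refine le_antisymm ?_ fun v hv => ⟨v, ?_⟩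
  · rintro _ ⟨v, rfl⟩ g
    exact LinearMap.congr_fun (mul_hproj T H hH (ρ := ρ) g) v
  · simp only [hproj, LinearMap.smul_apply, LinearMap.sum_apply]
    rw [Finset.sum_congr rfl fun h _ => (hv h : ρ h.1 v = v), Finset.sum_const, Finset.card_univ,
      ← Nat.cast_smul_eq_nsmul k, smul_smul, inv_mul_cancel₀ (card_level_ne_zero T H hH), one_smul]

variable [IsAlgClosed k] (hmax : ∀ H' : Subgroup Γ, H' ⊓ ι.range = ⊥ → H ≤ H' → H' = H)
include hmax

/-- `hproj` kills translates by elements outside `H kˣ`. -/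
lemma hproj_mul_eq_zero [Fintype H] {x : Γ} (hx : x ∉ H ⊔ ι.range) :
    hproj ρ H * (ρ x * hproj ρ H * ρ x⁻¹) = 0 := by
  obtain ⟨g, hg, hg1⟩ : ∃ g ∈ H, T.e x g ≠ 1 := by
    by_contra! h; exact hx (self_orth T H hH hmax h)
  rw [conj_hproj T H hH hρ, mul_smul_comm, Finset.mul_sum]
  have e1 : ∀ h : H, hproj ρ H * (((T.e x h : kˣ) : k) • ρ h) = ((T.e x h : kˣ) : k) • hproj ρ H := fun h => by
    rw [mul_smul_comm, hproj, smul_mul_assoc, Finset.sum_mul]
    congr 2
    exact Fintype.sum_equiv (Equiv.mulRight h) _ _ fun g => by simp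
  rw [Finset.sum_congr rfl fun h _ => e1 h, ← Finset.sum_smul]
  have : ∑ h : H, ((T.e x h : kˣ) : k) = 0 := by
    have hs : ∑ h : H, ((T.e x h : kˣ) : k) = ((T.e x g : kˣ) : k) * ∑ h : H, ((T.e x h : kˣ) : k) := by
      rw [Finset.mul_sum]
      exact (Fintype.sum_equiv (Equiv.mulLeft ⟨g, hg⟩) _ _ fun h => by simp [T.e_mul_right]).symm
    have : (((T.e x g : kˣ) : k) - 1) * ∑ h : H, ((T.e x h : kˣ) : k) = 0 := by linear_combination -hs
    exact (mul_eq_zero.mp this).resolve_left (by rwa [sub_eq_zero, Units.val_eq_one])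
  rw [this, zero_smul, smul_zero]

omit hmax in
lemma hproj_conj_of_mem [Fintype H] {x : Γ} (hx : x ∈ H ⊔ ι.range) :
    ρ x * hproj ρ H * ρ x⁻¹ = hproj ρ H := by
  haveI := T.normal
  rw [conj_hproj T H hH hρ, hproj]
  congr 1
  refine Finset.sum_congr rfl fun h _ => ?_
  obtain ⟨a, ha, _, ⟨z, rfl⟩, rfl⟩ := (Subgroup.mem_sup_of_normal_right).mp hx
  rw [T.e_mul_left, T.e_ι_left, mul_one, comm_level T H hH ha h.2, Units.val_one, one_smul]

/-- The decomposition into translates of the invariants. -/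
theorem finrank_eq_mul [FiniteDimensional k V] :
    Module.finrank k V = Nat.card (Γ ⧸ (H ⊔ ι.range)) *
      Module.finrank k (Representation.invariants (ρ.comp H.subtype)) := by
  classical
  haveI := finite_level T H hH
  haveI := Fintype.ofFinite H
  haveI := T.fin
  haveI := T.normal
  haveI := Fintype.ofFinite (Γ ⧸ ι.range)
  set M := H ⊔ ι.range with hM
  haveI : Finite (Γ ⧸ M) := Finite.of_surjective (Quotient.map' id fun a b hab => by
      rw [QuotientGroup.leftRel_apply] at hab ⊢; exact Subgroup.mem_sup_right hab : Γ ⧸ ι.range → Γ ⧸ M)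
    (fun q => Quotient.inductionOn' q fun g => ⟨QuotientGroup.mk g, rfl⟩)
  haveI := Fintype.ofFinite (Γ ⧸ M)
  set P : Γ → (V →ₗ[k] V) := fun x => ρ x * hproj ρ H * ρ x⁻¹ with hP
  have hcan : ∀ x : Γ, ρ x⁻¹ * ρ x = 1 := fun x => by rw [← map_mul, inv_mul_cancel, map_one]
  have hPmul : ∀ a b : Γ, P (a * b) = ρ a * P b * ρ a⁻¹ := fun a b => by
    simp only [hP, map_mul, mul_inv_rev, mul_assoc]
  have hidem : hproj ρ H * hproj ρ H = hproj ρ H := by
    nth_rw 1 [hproj]
    rw [smul_mul_assoc, Finset.sum_mul, Finset.sum_congr rfl fun h _ => mul_hproj T H hH (ρ := ρ) h,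
      Finset.sum_const, Finset.card_univ, ← Nat.cast_smul_eq_nsmul k, smul_smul,
      inv_mul_cancel₀ (card_level_ne_zero T H hH), one_smul]
  have hsame : ∀ a b : Γ, a⁻¹ * b ∈ M → P b = P a := fun a b h => by
    have := hPmul a (a⁻¹ * b)
    rw [mul_inv_cancel_left] at this
    rw [this]
    simp only [hP]
    rw [hproj_conj_of_mem T H hH hρ h]
  have horth : ∀ a b : Γ ⧸ M, P a.out * P b.out = if a = b then P a.out else 0 := fun a b => by
    split_ifs with h
    · subst h
      simp only [hP, mul_assoc]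
      rw [← mul_assoc (ρ a.out⁻¹) (ρ a.out), hcan, one_mul, ← mul_assoc (hproj ρ H), hidem]
    · have hnot : a.out⁻¹ * b.out ∉ M := fun hm => h (by
        have := QuotientGroup.eq.mpr hm
        rwa [QuotientGroup.out_eq', QuotientGroup.out_eq'] at this)
      have e : P a.out * P b.out = ρ a.out * (hproj ρ H * P (a.out⁻¹ * b.out)) * ρ a.out⁻¹ := by
        rw [hPmul a.out⁻¹ b.out, inv_inv]
        simp only [hP, mul_assoc]
        rw [← map_mul, mul_inv_cancel, map_one, mul_one]
      rw [e, hproj_mul_eq_zero T H hH hρ hmax hnot, mul_zero, zero_mul]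
  -- the projectors sum to one
  have hall : ∑ q : Γ ⧸ ι.range, P q.out = ((Nat.card (Γ ⧸ ι.range) : k) * (Fintype.card H : k)⁻¹) • 1 := by
    simp only [hP, conj_hproj T H hH hρ, ← Finset.smul_sum]
    rw [Finset.sum_comm, Finset.sum_eq_single (1 : H)]
    · have h4 : ∀ q : Γ ⧸ ι.range, ((T.e q.out 1 : kˣ) : k) = 1 := fun q => by
        rw [← map_one ι, T.e_ι_right]; simp
      simp only [OneMemClass.coe_one, h4, one_smul, Finset.sum_const, Finset.card_univ, map_one]
      rw [← Nat.cast_smul_eq_nsmul k, smul_smul, ← Nat.card_eq_fintype_card (α := Γ ⧸ ι.range), mul_comm]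
    · intro h _ hne
      rw [← Finset.sum_smul, T.sum_e_left, zero_smul]
      intro hmem
      refine hne (Subtype.ext ?_)
      have : h.1 ∈ H ⊓ ι.range := ⟨h.2, hmem⟩
      rwa [hH, Subgroup.mem_bot] at this
    · simp
  set S : V →ₗ[k] V := ∑ a : Γ ⧸ M, P a.out with hS
  have hSP : ∀ b : Γ ⧸ M, S * P b.out = P b.out := fun b => by
    rw [hS, Finset.sum_mul]; simp [horth]
  have hS1 : S = 1 := by
    have hSq : ∀ q : Γ ⧸ ι.range, S * P q.out = P q.out := fun q => by
      have : P q.out = P ((q.out : Γ ⧸ M)).out := hsame _ _ (QuotientGroup.eq.mp (QuotientGroup.out_eq' _))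
      rw [this, hSP]
    have h := congrArg (S * ·) hall
    simp only [Finset.mul_sum, hSq, mul_smul_comm, mul_one] at h
    rw [hall] at h
    exact (smul_right_injective _ (mul_ne_zero T.card_ne_zero (inv_ne_zero (card_level_ne_zero T H hH)))) h.symm
  -- the decomposition
  set I := Representation.invariants (ρ.comp H.subtype)
  let L : V →ₗ[k] ((Γ ⧸ M) → I) := LinearMap.pi fun a =>
    LinearMap.codRestrict I (hproj ρ H * ρ a.out⁻¹) fun v => by
      rw [show I = LinearMap.range (hproj ρ H) from (range_hproj T H hH).symm]; exact ⟨_, rfl⟩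
  have hfix : ∀ v ∈ I, hproj ρ H v = v := fun v hv => by
    rw [show I = LinearMap.range (hproj ρ H) from (range_hproj T H hH).symm] at hv
    obtain ⟨u, rfl⟩ := hv
    exact LinearMap.congr_fun hidem u
  have hinj : Function.Injective L := (injective_iff_map_eq_zero L).mpr fun v hv => by
    rw [← Module.End.one_apply v (R := k), ← hS1, hS, LinearMap.sum_apply]
    refine Finset.sum_eq_zero fun a _ => ?_
    have : hproj ρ H (ρ a.out⁻¹ v) = 0 := congrArg Subtype.val (congrFun hv a)
    simp [hP, this]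
  have hsurj : Function.Surjective L := fun c => by
    refine ⟨∑ b : Γ ⧸ M, ρ b.out (c b), funext fun a => Subtype.ext ?_⟩
    show hproj ρ H (ρ a.out⁻¹ (∑ b : Γ ⧸ M, ρ b.out (c b))) = c a
    rw [map_sum, map_sum, Finset.sum_eq_single a]
    · rw [← Module.End.mul_apply (ρ a.out⁻¹), hcan, Module.End.one_apply, hfix _ (c a).2]
    · intro b _ hb
      have h := LinearMap.congr_fun (horth a b) (ρ b.out (c b))
      rw [if_neg (Ne.symm hb)] at h
      simp only [hP, Module.End.mul_apply, LinearMap.zero_apply] at h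
      rw [← Module.End.mul_apply (ρ b.out⁻¹), hcan, Module.End.one_apply, hfix _ (c b).2] at h
      have := congrArg (ρ a.out⁻¹) h
      rwa [map_zero, ← Module.End.mul_apply (ρ a.out⁻¹), hcan, Module.End.one_apply] at this
    · simp
  rw [(LinearEquiv.ofBijective L ⟨hinj, hsurj⟩).finrank_eq, Module.finrank_pi_fintype, Finset.sum_const,
    Finset.card_univ, smul_eq_mul, Nat.card_eq_fintype_card]

/-- The invariants of an irreducible representation form a line. -/
theorem finrank_invariants_eq_one [FiniteDimensional k V] [Representation.IsIrreducible ρ] [Nontrivial V] :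
    Module.finrank k (Representation.invariants (ρ.comp H.subtype)) = 1 := by
  classical
  haveI := finite_level T H hH
  haveI := Fintype.ofFinite H
  haveI := T.normal
  set I := Representation.invariants (ρ.comp H.subtype) with hI
  have hdim := finrank_eq_mul T H hH hρ hmax
  have hVpos : 0 < Module.finrank k V := Module.finrank_pos
  obtain ⟨v, hv, hv0⟩ : ∃ v ∈ I, v ≠ 0 := Submodule.exists_mem_ne_zero_of_ne_bot fun e => by
    rw [← hI, e, finrank_bot, mul_zero] at hdim; omega
  let R : Subrepresentation ρ := ⟨Submodule.span k (Set.range fun x => ρ x v), fun g w hw => by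
    induction hw using Submodule.span_induction with
    | mem x hx =>
      obtain ⟨y, rfl⟩ := hx
      exact Submodule.subset_span ⟨g * y, by simp⟩
    | zero => rw [map_zero]; exact zero_mem _
    | add x y _ _ hx hy => rw [map_add]; exact add_mem hx hy
    | smul c x _ hx => rw [map_smul]; exact Submodule.smul_mem _ c hx⟩
  have hR : R = ⊤ := (IsSimpleOrder.eq_bot_or_eq_top R).resolve_left fun h => hv0 (by
    have hm : v ∈ R.toSubmodule := Submodule.subset_span ⟨1, by simp⟩
    rw [h] at hm
    exact (Submodule.mem_bot k).mp hm)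
  have hle : I ≤ Submodule.span k {v} := by
    rw [hI, ← range_hproj T H hH]
    rintro _ ⟨w, rfl⟩
    have hw : w ∈ Submodule.span k (Set.range fun x => ρ x v) := by
      show w ∈ R.toSubmodule
      rw [hR]; exact Submodule.mem_top
    induction hw using Submodule.span_induction with
    | mem x hx =>
      obtain ⟨y, rfl⟩ := hx
      have hPv : hproj ρ H v = v := by
        have : v ∈ LinearMap.range (hproj ρ H) := by rw [range_hproj T H hH]; exact hv
        simp only [hproj, LinearMap.smul_apply, LinearMap.sum_apply]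
        rw [Finset.sum_congr rfl fun h _ => (hv h : ρ h.1 v = v), Finset.sum_const, Finset.card_univ,
          ← Nat.cast_smul_eq_nsmul k, smul_smul, inv_mul_cancel₀ (card_level_ne_zero T H hH), one_smul]
      by_cases hy : y ∈ H ⊔ ι.range
      · obtain ⟨a, ha, _, ⟨z, rfl⟩, rfl⟩ := (Subgroup.mem_sup_of_normal_right).mp hy
        have : ρ a v = v := hv ⟨a, ha⟩
        simp only [map_mul, Module.End.mul_apply, hρ z, LinearMap.smul_apply, Module.End.one_apply, map_smul,
          this, hPv]
        exact Submodule.smul_mem _ _ (Submodule.mem_span_singleton_self v)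
      · have h := LinearMap.congr_fun (hproj_mul_eq_zero T H hH hρ hmax hy) (ρ y v)
        simp only [Module.End.mul_apply, LinearMap.zero_apply] at h
        rw [← Module.End.mul_apply (ρ y⁻¹), ← map_mul, inv_mul_cancel, map_one, Module.End.one_apply, hPv] at h
        show hproj ρ H (ρ y v) ∈ _
        rw [h]
        exact zero_mem _
    | zero => rw [map_zero]; exact zero_mem _
    | add x y _ _ hx hy => rw [map_add]; exact add_mem hx hy
    | smul c x _ hx => rw [map_smul]; exact Submodule.smul_mem _ c hx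
  rw [le_antisymm hle ((Submodule.span_singleton_le_iff_mem _ _).mpr hv), finrank_span_singleton hv0]

end Level

end Groth.Agent.H25Theta
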